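import Mathlib
import Groth.Prelude
import Groth.Agent.Lib.Helper1.CMQF
import Groth.Agent.Lib.Helper1.FibreStalk
import Groth.Agent.Lib.Helper6.Liai3
import Groth.Agent.Lib.Helper6.FiberDict
import Groth.Agent.Lib.Helper2.SyntCM4
import Groth.Agent.Lib.Helper8.GCI.LCI
import Groth.Agent.Lib.Helper8.Synt.Local2

/-! Syntomic morphisms are Cohen–Macaulay at every point. -/

set_option autoImplicit false
universe u
open AlgebraicGeometry CategoryTheory IsLocalRing

namespace Groth.Agent.H8.SyntCMAt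

variable {X S : Scheme.{u}} (f : X ⟶ S)

/-- chart description of the local ring of the fibre -/
theorem nonempty_fibLocRing_equiv {U : X.affineOpens} {V : S.affineOpens} (e : U.1 ≤ f ⁻¹ᵁ V.1)
    (x : X) (hx : x ∈ U.1) :
    letI := (f.appLE V.1 U.1 e).hom.toAlgebra
    Nonempty (EGA4.FibLocRing Γ(S, V.1) Γ(X, U.1) (U.2.primeIdealOf ⟨x, hx⟩).asIdeal ≃+*
      (X.presheaf.stalk x ⧸
        (maximalIdeal (S.presheaf.stalk (f x))).map (f.stalkMap x).hom)) := by
  letI := (f.appLE V.1 U.1 e).hom.toAlgebra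
  set Q := (U.2.primeIdealOf ⟨x, hx⟩).asIdeal with hQ
  let _ : Algebra Γ(X, U.1) (X.presheaf.stalk x) :=
    TopCat.Presheaf.algebra_section_stalk X.presheaf ⟨x, hx⟩
  have : IsLocalization.AtPrime (X.presheaf.stalk x) Q := U.2.isLocalization_stalk ⟨x, hx⟩
  let _ : Algebra Γ(S, V.1) (S.presheaf.stalk (f x)) :=
    TopCat.Presheaf.algebra_section_stalk S.presheaf ⟨f x, e hx⟩
  have : IsLocalization.AtPrime (S.presheaf.stalk (f x)) (V.2.primeIdealOf ⟨f x, e hx⟩).asIdeal :=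
    V.2.isLocalization_stalk ⟨f x, e hx⟩
  let ε : Localization.AtPrime Q ≃ₐ[Γ(X, U.1)] X.presheaf.stalk x :=
    IsLocalization.algEquiv Q.primeCompl _ _
  have hp : Q.comap (algebraMap Γ(S, V.1) Γ(X, U.1)) = (V.2.primeIdealOf ⟨f x, e hx⟩).asIdeal :=
    Groth.Agent.H2.SyntCM.comap_primeIdealOf f e x hx
  have hm : maximalIdeal (S.presheaf.stalk (f x)) =
      (V.2.primeIdealOf ⟨f x, e hx⟩).asIdeal.map (algebraMap Γ(S, V.1) (S.presheaf.stalk (f x))) :=
    (IsLocalization.AtPrime.map_eq_maximalIdeal _ _).symm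
  have hsq : (f.stalkMap x).hom.comp (algebraMap Γ(S, V.1) (S.presheaf.stalk (f x))) =
      (algebraMap Γ(X, U.1) (X.presheaf.stalk x)).comp (algebraMap Γ(S, V.1) Γ(X, U.1)) := by
    ext a
    simp only [RingHom.algebraMap_toAlgebra, RingHom.coe_comp, Function.comp_apply]
    change (f.stalkMap x).hom ((S.presheaf.germ V.1 (f x) (e hx)).hom a) = _
    rw [Scheme.Hom.germ_stalkMap_apply]
    simp only [Scheme.Hom.appLE, CommRingCat.hom_comp, RingHom.coe_comp, Function.comp_apply]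
    exact (X.presheaf.germ_res_apply _ _ _ _).symm
  have h1 : ∀ p : Ideal Γ(S, V.1),
      Ideal.map (ε.toRingEquiv : Localization.AtPrime Q →+* X.presheaf.stalk x)
        (Ideal.map (algebraMap Γ(S, V.1) (Localization.AtPrime Q)) p) =
      Ideal.map ((algebraMap Γ(X, U.1) (X.presheaf.stalk x)).comp
        (algebraMap Γ(S, V.1) Γ(X, U.1))) p := by
    intro p
    rw [Ideal.map_map]
    congr 1
    ext a
    simp only [RingHom.coe_comp, Function.comp_apply]
    rw [IsScalarTower.algebraMap_apply Γ(S, V.1) Γ(X, U.1) (Localization.AtPrime Q)]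
    exact ε.commutes _
  refine ⟨Ideal.quotientEquiv _ _ ε.toRingEquiv ?_⟩
  rw [hm, Ideal.map_map, hsq, ← hp]
  exact (h1 _).symm

theorem cm_fibLocRing_congr {A B : Type u} [CommRing A] [CommRing B] [Algebra A B]
    {Q Q' : Ideal B} [Q.IsPrime] [Q'.IsPrime] (h : Q = Q')
    (hcm : LocCoh.IsCohenMacaulayLocalRing (EGA4.FibLocRing A B Q)) :
    LocCoh.IsCohenMacaulayLocalRing (EGA4.FibLocRing A B Q') := by
  subst h
  exact hcm

/-- a syntomic chart around `x` makes `f` Cohen–Macaulay at `x`. -/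
theorem isCMAt_of_chart {U : X.affineOpens} {V : S.affineOpens} (e : U.1 ≤ f ⁻¹ᵁ V.1)
    (x : X) (hx : x ∈ U.1)
    (hsyn : letI := (f.appLE V.1 U.1 e).hom.toAlgebra
      Synt.IsSyntomic Γ(S, V.1) Γ(X, U.1))
    (hfl : (f.stalkMap x).hom.Flat) : MoreMor.IsCMAt f x := by
  refine ⟨hfl, ?_⟩
  letI := (f.appLE V.1 U.1 e).hom.toAlgebra
  set Q := (U.2.primeIdealOf ⟨x, hx⟩).asIdeal with hQ
  set p := Q.comap (algebraMap Γ(S, V.1) Γ(X, U.1)) with hp
  have hlci := hsyn.2.2 ⟨p, inferInstance⟩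
  haveI : LocCoh.IsCohenMacaulayRing (p.Fiber Γ(X, U.1)) :=
    Groth.Agent.H8.GCI.isCohenMacaulayRing_of_isLCIOver _ hlci
  obtain ⟨P, hP, hPQ⟩ := Groth.Agent.H6.FiberDict.exists_under_eq p Q rfl
  haveI : LocCoh.IsCohenMacaulayLocalRing (Localization.AtPrime P) :=
    LocCoh.IsCohenMacaulayRing.isCohenMacaulayLocalRing_localization P
  have e1 := Groth.Agent.H6.FiberDict.ringEquiv p P
  haveI h1 : LocCoh.IsCohenMacaulayLocalRing
      (EGA4.FibLocRing Γ(S, V.1) Γ(X, U.1) (Groth.Agent.H6.FiberDict.under p P)) :=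
    Groth.Agent.H6.Liai.cmLocal_of_ringEquiv (R₁ := Localization.AtPrime P) e1
  haveI h2 : LocCoh.IsCohenMacaulayLocalRing (EGA4.FibLocRing Γ(S, V.1) Γ(X, U.1) Q) :=
    cm_fibLocRing_congr hPQ h1
  obtain ⟨e2⟩ := nonempty_fibLocRing_equiv f e x hx
  exact Groth.Agent.H6.Liai.cmLocal_of_ringEquiv
    (e2.trans (Groth.Agent.H1.FibreStalk.fiberStalkEquiv f x))

theorem isCMAt_of_isSyntomicMor (hf : Synt.IsSyntomicMor f) (x : X) :
    Flat f ∧ LocallyOfFinitePresentation f ∧ MoreMor.IsCMAt f x := by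
  have hall := (Groth.Agent.H8.SyntLocal.isSyntomicMor_iff_forall f).mp hf
  have hflat : Flat f := by
    rw [HasRingHomProperty.iff_appLE (P := @Flat)]
    intro V U e
    have h := hall ⟨U.1, U.2⟩ ⟨V.1, V.2⟩ e
    letI := (f.appLE V.1 U.1 e).hom.toAlgebra
    exact (RingHom.flat_algebraMap_iff).mpr h.1
  have hfp : LocallyOfFinitePresentation f := by
    rw [HasRingHomProperty.iff_appLE (P := @LocallyOfFinitePresentation)]
    intro V U e
    have h := hall ⟨U.1, U.2⟩ ⟨V.1, V.2⟩ e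
    letI := (f.appLE V.1 U.1 e).hom.toAlgebra
    exact (RingHom.finitePresentation_algebraMap).mpr h.2.1
  refine ⟨hflat, hfp, ?_⟩
  obtain ⟨U, V, e, hx, hs⟩ := hf x
  exact isCMAt_of_chart f e x hx hs (Flat.stalkMap f x)

end Groth.Agent.H8.SyntCMAt
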